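import Cfsg.Agent.H180.R7.Two
import Cfsg.Agent.H304.R7.XMain
import Cfsg.Agent.H48.OreFi.WFour

/-!
# `Fi24'`: the elements of order 9 (helper180): the assembly

`of_parts` : `|C(g)| ≤ 10077696` for every `g` of order 9 of `Fi24'`, given the statement `SCases` on `U5(2)` and the bound
for the elements whose cube is conjugate to `X 3` or its inverse.
-/

set_option autoImplicit false
set_option maxRecDepth 100000

namespace Cfsg.Agent.H180.R7

open Subgroup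
open Cfsg.Agent.H48.OreFi.Nine (cj coe_cj card_cent_equiv card_cent_inv)
open Cfsg.Agent.LThreeFi24.SNine (x3)
open Cfsg.Agent.H842.ThreeCl (X)
open Cfsg.Spor (Fi24)

theorem x_two (hS : Two.SCases) {g : Spor.Fi24'} (h : ∃ y : Fi24, y * (g : Fi24) ^ 3 * y⁻¹ = X 2 ∨
    y * (g : Fi24) ^ 3 * y⁻¹ = (X 2)⁻¹) : Nat.card (centralizer ({g} : Set Spor.Fi24')) ≤ 10077696 := by
  have hx : X 2 = x3 := by
    rw [Cfsg.Agent.LThreeFi24.CaseB.word_x3]
    rfl
  rw [hx] at h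
  obtain ⟨y, hy⟩ := h
  have hpow : ((cj y g : Spor.Fi24') : Fi24) ^ 3 = y * (g : Fi24) ^ 3 * y⁻¹ := by
    rw [coe_cj, conj_pow]
  rcases hy with hy | hy
  · rw [← card_cent_equiv (cj y) g]
    exact Two.bound hS (hpow.trans hy)
  · rw [← card_cent_equiv (cj y) g, ← card_cent_inv]
    apply Two.bound hS
    show (((cj y g : Spor.Fi24') : Fi24)⁻¹) ^ 3 = x3
    rw [inv_pow, hpow, hy, inv_inv]

theorem of_parts (hS : Two.SCases) (hB : ∀ g : Spor.Fi24', orderOf g = 9 →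
      (∃ y : Fi24, y * (g : Fi24) ^ 3 * y⁻¹ = X 3 ∨ y * (g : Fi24) ^ 3 * y⁻¹ = (X 3)⁻¹) →
        Nat.card (centralizer ({g} : Set Spor.Fi24')) ≤ 10077696)
    {g : Spor.Fi24'} (hg : orderOf g = 9) : Nat.card (centralizer ({g} : Set Spor.Fi24')) ≤ 10077696 := by
  have ho : orderOf (g ^ 3) = 3 := by
    rw [orderOf_pow, hg]
    rfl
  have hs3 : ((g ^ 3 : Spor.Fi24') : Fi24) ^ 3 = 1 := by
    have h : (g ^ 3) ^ 3 = 1 := by
      have h' := pow_orderOf_eq_one (g ^ 3)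
      rwa [ho] at h'
    exact congrArg Subtype.val h
  have hs1 : ((g ^ 3 : Spor.Fi24') : Fi24) ≠ 1 := by
    intro h
    have h1 : g ^ 3 = 1 := Subtype.ext h
    rw [h1, orderOf_one] at ho
    omega
  obtain ⟨i, y, hy⟩ := Cfsg.Agent.H842.ThreeCl.all Cfsg.Agent.H49.Four.TEight.fgroup24' Cfsg.Agent.H49.Four.TEight.isT8
    hs3 hs1
  have hi : ∀ i : Fin 5, i = 0 ∨ i = 1 ∨ i = 2 ∨ i = 3 ∨ i = 4 := by decide
  rcases hi i with rfl | rfl | rfl | rfl | rfl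
  · exact (Cfsg.Agent.H48.OreFi.NineA.zero_false hy).elim
  · exact (Cfsg.Agent.H304.R7.XOne.x_one hg ⟨y, hy⟩).trans (by norm_num)
  · exact x_two hS ⟨y, hy⟩
  · exact hB g hg ⟨y, hy⟩
  · exact (Cfsg.Agent.H48.WFour.no_cube hy).elim

end Cfsg.Agent.H180.R7
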