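import Cfsg.Agent.H180.R7.SC
import Cfsg.Agent.H597.R7.OrbA

/-!
# `Fi24'`: the elements of order 9 (helper180)

`r7` : `|C(g)| ≤ 10077696` for every `g` of order 9 of `Fi24'` (the largest centralizer has order 262440).
-/

set_option autoImplicit false
set_option maxRecDepth 100000

namespace Cfsg.Agent.H180.R7

open Subgroup

/-- **the elements of order 9 of `Fi24'`** -/
theorem r7 {g : Spor.Fi24'} (hg : orderOf g = 9) : Nat.card (centralizer ({g} : Set Spor.Fi24')) ≤ 10077696 :=
  of_three (fun _ _ h => (Cfsg.Agent.H597.R7.OrbA.boxB h).trans (by norm_num)) hg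

end Cfsg.Agent.H180.R7
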