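import Cfsg.Agent.H180.R7.Asm
import Cfsg.Agent.H933.R7.Main

/-!
# `Fi24'`: the elements of order 9 (helper180)

* `x_two'` : the cube is conjugate to `X 2` or its inverse;
* `of_three` : `|C(g)| ≤ 10077696` for every `g` of order 9 of `Fi24'`, given the bound for the elements whose cube is
  conjugate to `X 3` or its inverse.
-/

set_option autoImplicit false
set_option maxRecDepth 100000

namespace Cfsg.Agent.H180.R7

open Subgroup
open Cfsg.Agent.H842.ThreeCl (X)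
open Cfsg.Spor (Fi24)

theorem sCases : Two.SCases := by
  intro s hs hK h3 h1
  rcases Cfsg.Agent.H933.R7.s_cases hs hK h3 h1 with h | ⟨h, f, hf, hfs, t, h4, h5, h6, h7, h8⟩
  · exact Or.inl h
  · exact Or.inr ⟨h, f, hf, hfs, t, h4, h5, h6, fun i => (h7 i).symm, h8⟩

theorem x_two' {g : Spor.Fi24'} (h : ∃ y : Fi24, y * (g : Fi24) ^ 3 * y⁻¹ = X 2 ∨
    y * (g : Fi24) ^ 3 * y⁻¹ = (X 2)⁻¹) : Nat.card (centralizer ({g} : Set Spor.Fi24')) ≤ 10077696 :=
  x_two sCases h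

theorem of_three (hB : ∀ g : Spor.Fi24', orderOf g = 9 →
      (∃ y : Fi24, y * (g : Fi24) ^ 3 * y⁻¹ = X 3 ∨ y * (g : Fi24) ^ 3 * y⁻¹ = (X 3)⁻¹) →
        Nat.card (centralizer ({g} : Set Spor.Fi24')) ≤ 10077696)
    {g : Spor.Fi24'} (hg : orderOf g = 9) : Nat.card (centralizer ({g} : Set Spor.Fi24')) ≤ 10077696 :=
  of_parts sCases hB hg

end Cfsg.Agent.H180.R7
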