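import Cfsg.Agent.H597.OreFi.NineB
import Cfsg.Agent.H180.R7.DatFam
import Cfsg.Agent.H180.R7.Cnt

/-!
# `Fi24'`: elements of order 9 whose cube is 3-central (helper180)

`SCases` : the statement on the elements of order three of `U5(2)` which is needed;
`x_two` : `|C(g)| ≤ 10077696` for every `g` of order 9 of `Fi24'` whose cube is conjugate to `X 2` or its inverse.
-/

set_option autoImplicit false
set_option maxRecDepth 100000

namespace Cfsg.Agent.H180.R7.Two

open Subgroup
open Cfsg.Agent.LThreeFi24.Comp Cfsg.Agent.LThreeFi24.Twin Cfsg.Agent.H841.Ext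
open Cfsg.Agent.H841.Tri
open Cfsg.Agent.LThreeFi24.SNine
open Cfsg.Agent.R08.FiTwentyFour (L mul_mem_commutator)
open Cfsg.Spor (Fi24)

/-- the elements of order three of `U5(2)` -/
def SCases : Prop := ∀ s : Fi24, s ∈ Cfsg.Agent.H834.U5.S0 → s ∈ commutator Fi24 → s ^ 3 = 1 → s ≠ 1 →
  Nat.card ↥(Cfsg.Agent.H834.U5.S0 ⊓ commutator Fi24 ⊓ centralizer {s}) ≤ 3888 ∨
  (Nat.card ↥(Cfsg.Agent.H834.U5.S0 ⊓ commutator Fi24 ⊓ centralizer {s}) ≤ 77760 ∧
    ∃ f ∈ Cfsg.Agent.H834.U5.S0, Commute f s ∧ ∃ t : Fin 5 → Fi24, Function.Injective t ∧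
      (∀ i, t i ∈ Cfsg.Agent.H834.U5.T0) ∧ (∀ i j, Commute (t i) (t j)) ∧ (∀ i, Commute s (t i)) ∧
      ∀ i : Fin 5, f * t i * f⁻¹ = t (i + 1))

/-- the even elements -/
abbrev Kc : Subgroup NX := (commutator Fi24).comap NX.subtype

/-- the complement -/
noncomputable abbrev Sc : Subgroup NX := Cfsg.Agent.H841.Ext.S0 DN zN ⊓ Kc

theorem finite_NX : Finite NX := by
  have : Finite Fi24 := Cfsg.Agent.R08.FiTwentyFour.finite_Fi24
  infer_instance

theorem Q_le_Kc : QQ DN ≤ Kc := by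
  rw [Subgroup.closure_le]
  rintro _ ⟨a, ha, b, hb, -, -, rfl⟩
  show ((a * b : NX) : Fi24) ∈ commutator Fi24
  exact mul_mem_commutator ha.1 hb.1

theorem inf_Sc : QQ DN ⊓ Sc = ⊥ := by
  have := finite_NX
  obtain ⟨f, hf⟩ := exists_fdat
  have := simple_psu5
  have h1 := dat.inf_S0 hf two_dvd_psu5 dat.normal_Q (IsPGroup.of_card card_QQ)
  rw [eq_bot_iff, ← h1]
  exact inf_le_inf_left _ inf_le_left

/-- the centralizer of `x3` -/
theorem cent_xN {c : NX} (hc : Commute c xN) : c ∈ QQ DN ⊔ Cfsg.Agent.H841.Ext.S0 DN zN := by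
  have := finite_NX
  rw [← dat.closure_D]
  have hle : Subgroup.closure DN ≤ centralizer {xN} := by
    rw [Subgroup.closure_le]
    intro t ht
    exact mem_centralizer_singleton_iff.2 (dat.cx t ht).eq
  have hcard : Nat.card (Subgroup.closure DN) = 3 ^ 11 * (2 * 13685760) := by
    obtain ⟨hn, ⟨j⟩⟩ := quot_S
    have hQ : QQ DN ≤ Subgroup.closure DN := by rw [dat.closure_D]; exact le_sup_left
    rw [Subgroup.card_eq_card_quotient_mul_card_subgroup ((QQ DN).subgroupOf (Subgroup.closure DN)),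
      Nat.card_congr (Subgroup.subgroupOfEquivOfLe hQ).toEquiv, card_QQ, Nat.card_congr j.toEquiv, Nat.card_prod,
      card_psu5]
    have h : Nat.card M2 = 2 := by
      rw [Nat.card_eq_fintype_card]
      decide
    rw [h]
    ring
  have heq : Subgroup.closure DN = centralizer {xN} := by
    apply Subgroup.eq_of_le_of_card_ge hle
    obtain ⟨k, hk⟩ := Subgroup.card_subgroup_dvd_card (centralizer ({xN} : Set NX))
    have hk2 : 2 ≤ k := by
      by_contra hcon
      have hk1 : k = 1 := by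
        have hpos : 0 < Nat.card NX := Nat.card_pos
        have : k ≠ 0 := by rintro rfl; omega
        omega
      rw [hk1, mul_one] at hk
      obtain ⟨n, hn⟩ := exists_inv
      apply hn
      have h1 : centralizer ({xN} : Set NX) = ⊤ := Subgroup.eq_top_of_card_eq _ hk.symm
      have h2 : n ∈ centralizer ({xN} : Set NX) := by rw [h1]; exact Subgroup.mem_top _
      rw [mem_centralizer_singleton_iff] at h2
      rw [h2, mul_inv_cancel_right]
    rw [card_NX] at hk
    rw [hcard]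
    have h3 : Nat.card (centralizer ({xN} : Set NX)) * 2 ≤ Nat.card (centralizer ({xN} : Set NX)) * k :=
      Nat.mul_le_mul_left _ hk2
    rw [← hk] at h3
    have e : 3 ^ 11 * (2 * (2 * 13685760)) = 3 ^ 11 * (2 * 13685760) * 2 := by norm_num
    rw [e] at h3
    exact Nat.le_of_mul_le_mul_right h3 (by norm_num)
  rw [heq]
  exact mem_centralizer_singleton_iff.2 hc.eq

theorem cent_le {c : NX} (hc : Commute c xN) (hK : c ∈ Kc) : c ∈ QQ DN ⊔ Sc := by
  have hn : (QQ DN).Normal := dat.normal_Q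
  obtain ⟨q, hq, s, hs, e⟩ := Subgroup.mem_sup_of_normal_left.1 (cent_xN hc)
  have hsK : s ∈ Kc := by
    have : s = q⁻¹ * c := by rw [← e, inv_mul_cancel_left]
    rw [this]
    exact mul_mem (inv_mem (Q_le_Kc hq)) hK
  rw [← e]
  exact mul_mem (Subgroup.mem_sup_left hq) (Subgroup.mem_sup_right ⟨hs, hsK⟩)

/-- the order of the centralizer in the complement -/
theorem card_cent_le {s : NX} : Nat.card ↥(Sc ⊓ centralizer {s}) ≤
    Nat.card ↥(Cfsg.Agent.H834.U5.S0 ⊓ commutator Fi24 ⊓ centralizer {(s : Fi24)}) := by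
  have hfin : Finite Fi24 := Cfsg.Agent.R08.FiTwentyFour.finite_Fi24
  have h1 : Nat.card ↥(Sc ⊓ centralizer {s}) = Nat.card ↥((Sc ⊓ centralizer {s}).map NX.subtype) :=
    Nat.card_congr ((Sc ⊓ centralizer {s}).equivMapOfInjective _ (Subgroup.subtype_injective _)).toEquiv
  rw [h1]
  apply Nat.le_of_dvd Nat.card_pos
  apply Subgroup.card_dvd_of_le
  rintro _ ⟨c, ⟨⟨h2, h3⟩, h4⟩, rfl⟩
  refine ⟨⟨?_, h3⟩, mem_centralizer_singleton_iff.2 (congrArg Subtype.val (mem_centralizer_singleton_iff.1 h4))⟩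
  have : ((c : NX) : Fi24) ∈ (Cfsg.Agent.H841.Ext.S0 DN zN).map NX.subtype := ⟨c, h2, rfl⟩
  rwa [map_S0] at this

/-- **the bound in `N(⟨x3⟩)`** -/
theorem bound_NX (hS : SCases) {g : NX} (hg3 : g ^ 3 = xN) (hgK : g ∈ Kc) :
    Nat.card ↥(centralizer ({g} : Set NX) ⊓ Kc) ≤ 10077696 := by
  have := finite_NX
  have hn : (QQ DN).Normal := dat.normal_Q
  have hgx : Commute g xN := by rw [← hg3]; exact (Commute.refl _).pow_right _
  have hx1 : xN ≠ 1 := by
    intro h
    have := card_xN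
    rw [h, Subgroup.zpowers_one_eq_bot, Subgroup.card_bot] at this
    norm_num at this
  have hx3 : xN ^ 3 = 1 := by
    have := card_xN
    rw [Nat.card_zpowers] at this
    rw [← this]; exact pow_orderOf_eq_one _
  obtain ⟨q, hq, s, hs, rfl⟩ := Subgroup.mem_sup_of_normal_left.1 (cent_le hgx hgK)
  have hEs := es_QQ
  -- `s ^ 3 = 1`
  have hs3 : s ^ 3 = 1 := by
    have h1 : s ^ 3 ∈ QQ DN ⊓ Sc := by
      refine Subgroup.mem_inf.2 ⟨?_, pow_mem hs 3⟩
      have e : s ^ 3 = (q * (s * q * s⁻¹) * (s ^ 2 * q * (s ^ 2)⁻¹))⁻¹ * (q * s) ^ 3 := by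
        have e3 : s * s * s = s ^ 3 := by rw [pow_succ, pow_two]
        rw [pow_succ (q * s), pow_two (q * s), ← e3, pow_two s]
        simp only [mul_inv_rev, mul_assoc, inv_inv, inv_mul_cancel_left]
      rw [e, hg3]
      exact mul_mem (inv_mem (mul_mem (mul_mem hq (hn.conj_mem q hq s)) (hn.conj_mem q hq (s ^ 2))))
        (hEs.le (mem_zpowers _))
    rw [inf_Sc, Subgroup.mem_bot] at h1
    exact h1
  have hs1 : s ≠ 1 := by
    intro h
    rw [h, mul_one] at hg3
    rw [hEs.cub q hq] at hg3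
    exact hx1 hg3.symm
  have hg3' : (q * s) ^ 3 ≠ 1 := by rw [hg3]; exact hx1
  have hC : centralizer ({q * s} : Set NX) ⊓ Kc ≤ QQ DN ⊔ Sc := by
    rintro c ⟨h1, h2⟩
    refine cent_le ?_ h2
    rw [← hg3]
    exact Commute.pow_right (mem_centralizer_singleton_iff.1 h1) _
  have hCg : ∀ c ∈ centralizer ({q * s} : Set NX) ⊓ Kc, Commute c (q * s) := fun c hc =>
    mem_centralizer_singleton_iff.1 hc.1
  have hsF : (s : Fi24) ∈ Cfsg.Agent.H834.U5.S0 := by
    rw [← map_S0]; exact ⟨s, hs.1, rfl⟩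
  rcases hS s hsF hs.2 (congrArg Subtype.val hs3) (fun h => hs1 (Subtype.ext h)) with hbd | ⟨hbd, f, hf, hfs, t, hinj, htT, htc,
    hst, hft⟩
  · -- not a reflection
    have h1 := card_le_mul hn inf_Sc hq hs hC hCg
    have hgo : orderOf (q * s) = 3 ^ 2 := by
      apply orderOf_eq_prime_pow
      · rw [pow_one]; exact hg3'
      · rw [show (3 : ℕ) ^ (1 + 1) = 3 * 3 by norm_num, pow_mul, hg3, hx3]
    obtain ⟨p0, hp0, hpt0⟩ := Cfsg.Agent.H597.OreFi.NineB.exists_moved (b := 2) le_rfl hgo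
    have hr := Cfsg.Agent.H597.OreFi.rank dat Cfsg.Agent.H834.GeoDN.geoDN card_Qc card_xN (g := q * s) hgx (n := 2)
      (by rw [← hgo, pow_orderOf_eq_one]) hp0 hpt0
    have h2 : Nat.card ↥((centralizer ({q * s} : Set NX) ⊓ Kc) ⊓ QQ DN) ≤ 3 ^ 7 := by
      refine le_trans ?_ hr
      apply Nat.le_of_dvd Nat.card_pos
      apply Subgroup.card_dvd_of_le
      exact inf_le_inf_right _ inf_le_left
    have h3 : Nat.card ↥((QQ DN ⊔ (centralizer ({q * s} : Set NX) ⊓ Kc)) ⊓ (Sc ⊓ centralizer {s})) ≤ 3888 := by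
      refine le_trans ?_ (card_cent_le.trans hbd)
      apply Nat.le_of_dvd Nat.card_pos
      exact Subgroup.card_dvd_of_le inf_le_right
    exact (h1.trans (Nat.mul_le_mul h2 h3)).trans (by norm_num)
  · -- a reflection
    let tN : Fin 5 → NX := fun i => mk (t i) (T0_E3 (htT i))
    have htN : ∀ i, tN i ∈ Cfsg.Agent.H841.Ext.T0 DN zN := fun i => mem_T0_iff.2 (htT i)
    have hinjN : Function.Injective tN := fun i j h => hinj (congrArg Subtype.val h)
    have htcN : ∀ i j, Commute (tN i) (tN j) := fun i j => Subtype.ext (htc i j).eq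
    have hstN : ∀ i, Commute s (tN i) := fun i => Subtype.ext (hst i).eq
    obtain ⟨fN, hfN, hff⟩ : f ∈ (Cfsg.Agent.H841.Ext.S0 DN zN).map NX.subtype := by rw [map_S0]; exact hf
    have hff' : (fN : Fi24) = f := hff
    have hfsN : Commute fN s := Subtype.ext (by
      show (fN : Fi24) * s = s * fN
      rw [hff']; exact hfs.eq)
    have hftN : ∀ i : Fin 5, fN * tN i * fN⁻¹ = tN (i + 1) := fun i => Subtype.ext (by
      show (fN : Fi24) * t i * (fN : Fi24)⁻¹ = t (i + 1)
      rw [hff']; exact hft i)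
    have F := fam dat htN hinjN htcN card_Qc card_xN
    have T := inv_t dat htN hinjN htcN
    have hsQ : s ∉ QQ DN := by
      intro h
      apply hs1
      have h1 : s ∈ QQ DN ⊓ Sc := ⟨h, hs⟩
      rwa [inf_Sc, Subgroup.mem_bot] at h1
    have hqx : Commute q xN := (hEs.cen xN (mem_zpowers _) q hq).symm
    have hsx : Commute s xN := by
      have h := hqx.inv_left.mul_left hgx
      rwa [inv_mul_cancel_left] at h
    have A := act_t dat htN hinjN htcN card_Qc card_xN hsx hstN hfsN hftN hsQ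
    have htt : ∀ i j, tN i * tN j ∈ Sc := fun i j =>
      ⟨mul_mem (Subgroup.subset_closure (htN i)) (Subgroup.subset_closure (htN j)),
        mul_mem_commutator (htT i).1 (htT j).1⟩
    have ht2 : ∀ i, tN i * tN i = 1 := fun i => dat.ts.sq _ (htN i).1
    have h := card_ref F T A hn inf_Sc hs hs3 hq hg3' hC hCg htt ht2 htcN (m := 38880) (card_cent_le.trans hbd)
    exact h.trans (by norm_num)

/-- **the bound** -/
theorem bound (hS : SCases) {g : Spor.Fi24'} (hg3 : (g : Fi24) ^ 3 = x3) :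
    Nat.card (centralizer ({g} : Set Spor.Fi24')) ≤ 10077696 := by
  have hgx : Commute (g : Fi24) x3 := by rw [← hg3]; exact (Commute.refl _).pow_right _
  let gN : NX := ⟨(g : Fi24), mem_NX_of_comm hgx⟩
  refine le_trans (le_of_eq ?_) (bound_NX hS (g := gN) (Subtype.ext hg3) g.2)
  let C := centralizer ({gN} : Set NX) ⊓ Kc
  have h1 : Nat.card (centralizer ({g} : Set Spor.Fi24')) =
      Nat.card ((centralizer ({g} : Set Spor.Fi24')).map (commutator Fi24).subtype) :=
    Nat.card_congr ((centralizer ({g} : Set Spor.Fi24')).equivMapOfInjective _ (Subgroup.subtype_injective _)).toEquiv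
  have h2 : Nat.card C = Nat.card (C.map NX.subtype) :=
    Nat.card_congr (C.equivMapOfInjective _ (Subgroup.subtype_injective _)).toEquiv
  have h3 : (centralizer ({g} : Set Spor.Fi24')).map (commutator Fi24).subtype = C.map NX.subtype := by
    ext y
    constructor
    · rintro ⟨c, hc, rfl⟩
      have h4 : Commute (c : Fi24) (g : Fi24) := congrArg Subtype.val (mem_centralizer_singleton_iff.1 hc)
      have h5 : Commute (c : Fi24) x3 := by rw [← hg3]; exact h4.pow_right 3
      exact ⟨⟨(c : Fi24), mem_NX_of_comm h5⟩, ⟨mem_centralizer_singleton_iff.2 (Subtype.ext h4), c.2⟩, rfl⟩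
    · rintro ⟨c, ⟨h4, h5⟩, rfl⟩
      exact ⟨⟨(c : Fi24), h5⟩, mem_centralizer_singleton_iff.2 (Subtype.ext
        (congrArg Subtype.val (mem_centralizer_singleton_iff.1 h4) : (c : Fi24) * g = g * c)), rfl⟩
  rw [h1, h3, ← h2]

end Cfsg.Agent.H180.R7.Two
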